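import Cfsg.Agent.H58.Rec.Names
import Cfsg.Agent.OddHalf.Known

/-!
# S3484: from names back to the list (helper889)

`known_of_named` : a group with a name is in the list `IsKnownSimple'`.
`known (hN : NameHyp.{u}) (S : Type v)` : every finite simple group of any universe is known.
-/

set_option autoImplicit false

namespace Cfsg.Agent.H889.RecKnown

open Cfsg Cfsg.Agent.OrdDiv Cfsg.Agent.H436

universe u v

/-- a group with a name in the range is in the list -/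
theorem known_of_named {g : Grp} {S : Type u} [Group S] (h : IsNamed g S) : IsKnownSimple' S := by
  have hr := h.real
  have hc := h.cond
  have sp : IsSporadicGroup S → IsKnownSimple' S := fun h => Or.inr (Or.inr (Or.inr (Or.inr (Or.inr (Or.inr (Or.inr
    (Or.inr (Or.inr h))))))))
  cases g with
  | alt n => exact Or.inr (Or.inl ⟨n, hc, hr⟩)
  | psl n q =>
    obtain ⟨F, i1, i2, hq, e⟩ := hr
    exact Or.inr (Or.inr (Or.inl ⟨F, i1, i2, n, hc.1, fun h2 => hq ▸ hc.2.1 h2, e⟩))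
  | psp n q =>
    obtain ⟨F, i1, i2, hq, e⟩ := hr
    exact Or.inr (Or.inr (Or.inr (Or.inl ⟨F, i1, i2, n, hc.1, fun h2 => hq ▸ hc.2.1 h2, e⟩)))
  | psu n q =>
    obtain ⟨F, i1, i2, hq, e⟩ := hr
    exact Or.inr (Or.inr (Or.inr (Or.inr (Or.inl ⟨F, i1, i2, n, q, hq, hc.1, hc.2.1, e⟩))))
  | oodd n q =>
    obtain ⟨F, i1, i2, hq, e⟩ := hr
    exact Or.inr (Or.inr (Or.inr (Or.inr (Or.inr (Or.inl ⟨F, i1, i2, n, hc.1, hq ▸ hc.2.1, e⟩)))))
  | oplus n q =>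
    obtain ⟨F, i1, i2, hq, e⟩ := hr
    exact Or.inr (Or.inr (Or.inr (Or.inr (Or.inr (Or.inr (Or.inl ⟨F, i1, i2, n, hc.1, e⟩))))))
  | ominus n q =>
    obtain ⟨F, i1, i2, a, b, hq, hab, e⟩ := hr
    exact Or.inr (Or.inr (Or.inr (Or.inr (Or.inr (Or.inr (Or.inr (Or.inl ⟨F, i1, i2, n, a, b, hc.1, hab, e⟩)))))))
  | g2 q =>
    obtain ⟨F, i1, i2, hq, e⟩ := hr
    exact Or.inr (Or.inr (Or.inr (Or.inr (Or.inr (Or.inr (Or.inr (Or.inr (Or.inl (Or.inl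
      ⟨F, i1, i2, hq ▸ hc.1, e⟩)))))))))
  | f4 q =>
    obtain ⟨F, i1, i2, hq, e⟩ := hr
    exact Or.inr (Or.inr (Or.inr (Or.inr (Or.inr (Or.inr (Or.inr (Or.inr (Or.inl (Or.inr (Or.inl
      ⟨F, i1, i2, e⟩))))))))))
  | e6 q =>
    obtain ⟨F, i1, i2, hq, e⟩ := hr
    exact Or.inr (Or.inr (Or.inr (Or.inr (Or.inr (Or.inr (Or.inr (Or.inr (Or.inl (Or.inr (Or.inr (Or.inl
      ⟨F, i1, i2, e⟩)))))))))))
  | e7 q =>
    obtain ⟨F, i1, i2, hq, e⟩ := hr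
    exact Or.inr (Or.inr (Or.inr (Or.inr (Or.inr (Or.inr (Or.inr (Or.inr (Or.inl (Or.inr (Or.inr (Or.inr (Or.inl
      ⟨F, i1, i2, e⟩))))))))))))
  | e8 q =>
    obtain ⟨F, i1, i2, hq, e⟩ := hr
    exact Or.inr (Or.inr (Or.inr (Or.inr (Or.inr (Or.inr (Or.inr (Or.inr (Or.inl (Or.inr (Or.inr (Or.inr (Or.inr
      (Or.inl ⟨F, i1, i2, e⟩)))))))))))))
  | te6 q =>
    obtain ⟨F, i1, i2, hq, e⟩ := hr
    exact Or.inr (Or.inr (Or.inr (Or.inr (Or.inr (Or.inr (Or.inr (Or.inr (Or.inl (Or.inr (Or.inr (Or.inr (Or.inr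
      (Or.inr (Or.inl ⟨F, i1, i2, q, hc, hq, e⟩))))))))))))))
  | td4 q =>
    obtain ⟨F, i1, i2, hq, e⟩ := hr
    exact Or.inr (Or.inr (Or.inr (Or.inr (Or.inr (Or.inr (Or.inr (Or.inr (Or.inl (Or.inr (Or.inr (Or.inr (Or.inr
      (Or.inr (Or.inr (Or.inl ⟨F, i1, i2, q, hc, hq, e⟩)))))))))))))))
  | sz q =>
    obtain ⟨F, i1, i2, m, hm, hq, hqm, e⟩ := hr
    exact Or.inr (Or.inr (Or.inr (Or.inr (Or.inr (Or.inr (Or.inr (Or.inr (Or.inl (Or.inr (Or.inr (Or.inr (Or.inr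
      (Or.inr (Or.inr (Or.inr (Or.inl ⟨F, i1, i2, m, hm, hq.trans hqm, e⟩))))))))))))))))
  | ree q =>
    obtain ⟨F, i1, i2, m, hm, hq, hqm, e⟩ := hr
    exact Or.inr (Or.inr (Or.inr (Or.inr (Or.inr (Or.inr (Or.inr (Or.inr (Or.inl (Or.inr (Or.inr (Or.inr (Or.inr
      (Or.inr (Or.inr (Or.inr (Or.inr (Or.inl ⟨F, i1, i2, m, hm, hq.trans hqm, e⟩)))))))))))))))))
  | tf4 q =>
    obtain ⟨F, i1, i2, m, hm, hq, hqm, e⟩ := hr
    exact Or.inr (Or.inr (Or.inr (Or.inr (Or.inr (Or.inr (Or.inr (Or.inr (Or.inl (Or.inr (Or.inr (Or.inr (Or.inr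
      (Or.inr (Or.inr (Or.inr (Or.inr (Or.inr (Or.inl ⟨F, i1, i2, m, hm, hq.trans hqm, e⟩))))))))))))))))))
  | tits =>
    exact Or.inr (Or.inr (Or.inr (Or.inr (Or.inr (Or.inr (Or.inr (Or.inr (Or.inl (Or.inr (Or.inr (Or.inr (Or.inr
      (Or.inr (Or.inr (Or.inr (Or.inr (Or.inr (Or.inr hr))))))))))))))))))
  | m11 => exact sp (Or.inl hr)
  | m12 => exact sp (Or.inr (Or.inl hr))
  | m22 => exact sp (Or.inr (Or.inr (Or.inl hr)))
  | m23 => exact sp (Or.inr (Or.inr (Or.inr (Or.inl hr))))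
  | m24 => exact sp (Or.inr (Or.inr (Or.inr (Or.inr (Or.inl hr)))))
  | j1 => exact sp (Or.inr (Or.inr (Or.inr (Or.inr (Or.inr (Or.inl hr))))))
  | j2 => exact sp (Or.inr (Or.inr (Or.inr (Or.inr (Or.inr (Or.inr (Or.inl hr)))))))
  | j3 => exact sp (Or.inr (Or.inr (Or.inr (Or.inr (Or.inr (Or.inr (Or.inr (Or.inl hr))))))))
  | j4 => exact sp (Or.inr (Or.inr (Or.inr (Or.inr (Or.inr (Or.inr (Or.inr (Or.inr (Or.inl hr)))))))))
  | co1 => exact sp (Or.inr (Or.inr (Or.inr (Or.inr (Or.inr (Or.inr (Or.inr (Or.inr (Or.inr (Or.inl hr))))))))))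
  | co2 => exact sp (Or.inr (Or.inr (Or.inr (Or.inr (Or.inr (Or.inr (Or.inr (Or.inr (Or.inr (Or.inr (Or.inl
      hr)))))))))))
  | co3 => exact sp (Or.inr (Or.inr (Or.inr (Or.inr (Or.inr (Or.inr (Or.inr (Or.inr (Or.inr (Or.inr (Or.inr (Or.inl
      hr))))))))))))
  | mcl => exact sp (Or.inr (Or.inr (Or.inr (Or.inr (Or.inr (Or.inr (Or.inr (Or.inr (Or.inr (Or.inr (Or.inr (Or.inr
      (Or.inl hr)))))))))))))
  | hs => exact sp (Or.inr (Or.inr (Or.inr (Or.inr (Or.inr (Or.inr (Or.inr (Or.inr (Or.inr (Or.inr (Or.inr (Or.inr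
      (Or.inr (Or.inl hr))))))))))))))
  | suz => exact sp (Or.inr (Or.inr (Or.inr (Or.inr (Or.inr (Or.inr (Or.inr (Or.inr (Or.inr (Or.inr (Or.inr (Or.inr
      (Or.inr (Or.inr (Or.inl hr)))))))))))))))
  | he => exact sp (Or.inr (Or.inr (Or.inr (Or.inr (Or.inr (Or.inr (Or.inr (Or.inr (Or.inr (Or.inr (Or.inr (Or.inr
      (Or.inr (Or.inr (Or.inr (Or.inl hr))))))))))))))))
  | ru => exact sp (Or.inr (Or.inr (Or.inr (Or.inr (Or.inr (Or.inr (Or.inr (Or.inr (Or.inr (Or.inr (Or.inr (Or.inr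
      (Or.inr (Or.inr (Or.inr (Or.inr (Or.inl hr)))))))))))))))))
  | on => exact sp (Or.inr (Or.inr (Or.inr (Or.inr (Or.inr (Or.inr (Or.inr (Or.inr (Or.inr (Or.inr (Or.inr (Or.inr
      (Or.inr (Or.inr (Or.inr (Or.inr (Or.inr (Or.inl hr))))))))))))))))))
  | ly => exact sp (Or.inr (Or.inr (Or.inr (Or.inr (Or.inr (Or.inr (Or.inr (Or.inr (Or.inr (Or.inr (Or.inr (Or.inr
      (Or.inr (Or.inr (Or.inr (Or.inr (Or.inr (Or.inr (Or.inl hr)))))))))))))))))))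
  | fi22 => exact sp (Or.inr (Or.inr (Or.inr (Or.inr (Or.inr (Or.inr (Or.inr (Or.inr (Or.inr (Or.inr (Or.inr (Or.inr
      (Or.inr (Or.inr (Or.inr (Or.inr (Or.inr (Or.inr (Or.inr (Or.inl hr))))))))))))))))))))
  | fi23 => exact sp (Or.inr (Or.inr (Or.inr (Or.inr (Or.inr (Or.inr (Or.inr (Or.inr (Or.inr (Or.inr (Or.inr (Or.inr
      (Or.inr (Or.inr (Or.inr (Or.inr (Or.inr (Or.inr (Or.inr (Or.inr (Or.inl hr)))))))))))))))))))))
  | fi24 => exact sp (Or.inr (Or.inr (Or.inr (Or.inr (Or.inr (Or.inr (Or.inr (Or.inr (Or.inr (Or.inr (Or.inr (Or.inr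
      (Or.inr (Or.inr (Or.inr (Or.inr (Or.inr (Or.inr (Or.inr (Or.inr (Or.inr (Or.inl hr))))))))))))))))))))))
  | hn => exact sp (Or.inr (Or.inr (Or.inr (Or.inr (Or.inr (Or.inr (Or.inr (Or.inr (Or.inr (Or.inr (Or.inr (Or.inr
      (Or.inr (Or.inr (Or.inr (Or.inr (Or.inr (Or.inr (Or.inr (Or.inr (Or.inr (Or.inr (Or.inl
      hr)))))))))))))))))))))))
  | th => exact sp (Or.inr (Or.inr (Or.inr (Or.inr (Or.inr (Or.inr (Or.inr (Or.inr (Or.inr (Or.inr (Or.inr (Or.inr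
      (Or.inr (Or.inr (Or.inr (Or.inr (Or.inr (Or.inr (Or.inr (Or.inr (Or.inr (Or.inr (Or.inr (Or.inl
      hr))))))))))))))))))))))))
  | b => exact sp (Or.inr (Or.inr (Or.inr (Or.inr (Or.inr (Or.inr (Or.inr (Or.inr (Or.inr (Or.inr (Or.inr (Or.inr
      (Or.inr (Or.inr (Or.inr (Or.inr (Or.inr (Or.inr (Or.inr (Or.inr (Or.inr (Or.inr (Or.inr (Or.inr (Or.inl
      hr)))))))))))))))))))))))))
  | m => exact sp (Or.inr (Or.inr (Or.inr (Or.inr (Or.inr (Or.inr (Or.inr (Or.inr (Or.inr (Or.inr (Or.inr (Or.inr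
      (Or.inr (Or.inr (Or.inr (Or.inr (Or.inr (Or.inr (Or.inr (Or.inr (Or.inr (Or.inr (Or.inr (Or.inr (Or.inr
      hr)))))))))))))))))))))))))

/-- **Every finite simple group is known, in every universe.** -/
theorem known (hN : H58.Rec.NameHyp.{u}) (S : Type v) [Group S] [Finite S] [IsSimpleGroup S] :
    IsKnownSimple' S := by
  by_cases hc : IsMulCommutative S
  · left
    have hcomm : ∀ a b : S, a * b = b * a := fun a b => hc.is_comm.comm a b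
    let _ : CommGroup S := { (inferInstance : Group S) with mul_comm := hcomm }
    exact IsSimpleGroup.prime_card
  · have : Small.{u} S := inferInstance
    let e : Shrink.{u} S ≃* S := Shrink.mulEquiv
    have : Finite (Shrink.{u} S) := Finite.of_equiv S (equivShrink S)
    have : IsSimpleGroup (Shrink.{u} S) := OddHalf.Known.isSimple_congr e.symm inferInstance
    have hc' : ¬ IsMulCommutative (Shrink.{u} S) := fun h => hc ⟨⟨fun a b => by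
      have h1 := h.is_comm.comm (e.symm a) (e.symm b)
      have h2 : e.symm (a * b) = e.symm (b * a) := by rw [map_mul, map_mul]; exact h1
      exact e.symm.injective h2⟩⟩
    obtain ⟨g, hg⟩ := hN (Shrink.{u} S) hc'
    exact OddHalf.Known.isKnownSimple'_congr e hc' (known_of_named hg)

end Cfsg.Agent.H889.RecKnown
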