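import Cfsg.Agent.H58.Rec.Kill
import Cfsg.Agent.TypeM.FactsLy
import Cfsg.Agent.H537.CopDefs

/-!
# Facts on element orders of the Lyons group (helper889, for S3484)

* `exists_perm` : an element of order `2 m` of `Ly` gives a permutation of 11 points of order `m`;
* `not_22 k` : no element of order `22 k`, `k ≥ 2`; `not_74`.
-/

set_option autoImplicit false

namespace Cfsg.Agent.H889.RecLy

open Subgroup Equiv Cfsg Cfsg.Agent.H58.Rec Cfsg.Agent.TypeM.Two

/-- no permutation of eleven points has order `11 k`, `k ≥ 2` -/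
theorem perm_order {σ : Perm (Fin 11)} {k : ℕ} (hk : 2 ≤ k) : orderOf σ ≠ 11 * k := by
  intro h
  have hl : σ.cycleType.lcm = 11 * k := by rw [Equiv.Perm.lcm_cycleType, h]
  have hs : σ.cycleType.sum ≤ 11 := by
    rw [Equiv.Perm.sum_cycleType]
    exact (Finset.card_le_univ _).trans (by simp)
  by_cases h11 : 11 ∈ σ.cycleType
  · obtain ⟨t, ht⟩ := Multiset.exists_cons_of_mem h11
    rw [ht, Multiset.sum_cons] at hs
    have ht0 : t = 0 := by
      by_contra hne
      obtain ⟨x, hx⟩ := Multiset.exists_mem_of_ne_zero hne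
      have h2 : 2 ≤ x := Equiv.Perm.two_le_of_mem_cycleType (by rw [ht]; exact Multiset.mem_cons_of_mem hx)
      have h3 := Multiset.single_le_sum (fun _ _ => Nat.zero_le _) x hx
      omega
    rw [ht, ht0] at hl
    simp at hl
    omega
  · have h2 : σ.cycleType.lcm ∣ Nat.factorial 10 := by
      rw [Multiset.lcm_dvd]
      intro b hb
      have h3 := Multiset.single_le_sum (fun _ _ => Nat.zero_le _) b hb
      have h4 : b ≠ 11 := fun h => h11 (h ▸ hb)
      have h5 : 0 < b := by have := Equiv.Perm.two_le_of_mem_cycleType hb; omega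
      exact Nat.dvd_factorial h5 (by omega)
    rw [hl] at h2
    have h3 : 11 ∣ Nat.factorial 10 := (Dvd.intro _ rfl).trans h2
    revert h3
    decide

section MT

variable {G : Type*} [Group G]

theorem exists_perm (L : MT 11 G) {g : G} {m : ℕ} (hm : 0 < m) (hg : orderOf g = 2 * m) :
    ∃ σ : Perm (Fin 11), orderOf σ = m := by
  have h1 : orderOf (g ^ m) = 2 := by
    rw [orderOf_pow_of_dvd hm.ne' (by rw [hg]; exact Dvd.intro_left 2 rfl), hg]
    exact Nat.mul_div_cancel _ hm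
  obtain ⟨k, hk⟩ := L.one (g ^ m) (by rw [← pow_two, ← h1, pow_orderOf_eq_one]) (by
    intro h
    rw [h, orderOf_one] at h1
    omega)
  obtain ⟨h, hh⟩ : ∃ h, h = k⁻¹ * g * k := ⟨_, rfl⟩
  have hhm : h ^ m = L.t := by
    have : h = k⁻¹ * g * (k⁻¹)⁻¹ := by rw [inv_inv, hh]
    rw [this, conj_pow, ← hk]
    group
  have hho : orderOf h = 2 * m := by
    have : h = MulAut.conj k⁻¹ g := by rw [MulAut.conj_apply, inv_inv, hh]
    rw [this, MulEquiv.orderOf_eq, hg]
  have hc : h ∈ centralizer ({L.t} : Set G) := by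
    rw [mem_centralizer_singleton_iff, ← hhm]
    exact (Commute.refl h).pow_right m
  refine ⟨L.K.π ⟨h, hc⟩, ?_⟩
  have hz : (⟨h, hc⟩ : centralizer ({L.t} : Set G)) ^ m = L.K.z := by
    apply Subtype.ext
    rw [L.hz]
    exact hhm
  apply Nat.dvd_antisymm
  · apply orderOf_dvd_of_pow_eq_one
    rw [← map_pow, hz, L.K.π_z]
  · have h2 : L.K.π ((⟨h, hc⟩ : centralizer ({L.t} : Set G)) ^ orderOf (L.K.π ⟨h, hc⟩)) = 1 := by
      rw [map_pow, pow_orderOf_eq_one]
    have h3 : (⟨h, hc⟩ : centralizer ({L.t} : Set G)) ^ (2 * orderOf (L.K.π ⟨h, hc⟩)) = 1 := by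
      rw [mul_comm, pow_mul]
      rcases (L.K.ker _).1 h2 with h4 | h4
      · rw [h4, one_pow]
      · rw [h4, L.K.z_pow_two]
    have h5 : 2 * m ∣ 2 * orderOf (L.K.π ⟨h, hc⟩) := by
      rw [← hho]
      exact orderOf_dvd_of_pow_eq_one (congrArg Subtype.val h3)
    exact Nat.dvd_of_mul_dvd_mul_left (by norm_num) h5

end MT

/-- **No elements of order `22 k`.** -/
theorem not_22 {M : Type*} [Group M] (h : Spor.IsoLy M) {k : ℕ} (hk : 2 ≤ k) : ¬ HasOrd M (22 * k) := by
  obtain ⟨_, -, -, ⟨L⟩⟩ := TypeM.FactsLy.facts h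
  rintro ⟨g, hg⟩
  obtain ⟨σ, hσ⟩ := exists_perm L (m := 11 * k) (by omega) (by rw [hg]; ring)
  exact perm_order hk hσ

/-- **No elements of order 74.** -/
theorem not_74 {M : Type*} [Group M] (h : Spor.IsoLy M) : ¬ HasOrd M (2 * 37) := by
  obtain ⟨_, -, -, ⟨L⟩⟩ := TypeM.FactsLy.facts h
  rintro ⟨g, hg⟩
  obtain ⟨σ, hσ⟩ := exists_perm L (m := 37) (by omega) hg
  have h1 := orderOf_dvd_card (x := σ)
  rw [hσ, Fintype.card_perm, Fintype.card_fin] at h1
  revert h1
  decide

end Cfsg.Agent.H889.RecLy
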