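import Cfsg.Agent.H889.Rec.Known
import Cfsg.Agent.H889.Rec.LyFacts
import Cfsg.Agent.H306.Rec.Tools
import Cfsg.Agent.H655.LySixtySeven
import Cfsg.Agent.H997.OutCard
import Cfsg.Agent.TypeM.OutLyFin
import Cfsg.Agent.NotCT.Orders
import Cfsg.Agent.H839.Rec.LstFast

/-!
# S3484, row Ly (helper889): the Lyons group is recognizable by its element orders

Good prime 67 (`m = 37`); the Frobenius group `67 : 22` kills every prime of the kernel, as `Ly` has no element of order
`22 k`, `k ≥ 2`; `|Out Ly| = 1`.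
-/

set_option autoImplicit false

namespace Cfsg.Agent.H889.RecLy

open Subgroup Cfsg Cfsg.Agent.H58.Rec Cfsg.Agent.H455.Isolated Cfsg.Agent.OrdDiv Cfsg.Agent.H436

universe u v

section facts

variable {M : Type v} [Group M] [Finite M]

theorem isolated (hN : NameHyp.{u}) (hM : Spor.IsoLy M) : Isolated M 67 :=
  H306.Rec.isolated_of_sc (by norm_num)
    (H655.LySixtySeven.sc_ly (fun S _ _ _ => RecKnown.known hN S) hM)

theorem good (hN : NameHyp.{u}) (hM : Spor.IsoLy M) : Good M 67 where
  prime := by norm_num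
  ne2 := by norm_num
  dvd := by rw [NotCT.Orders.ly hM]; norm_num
  iso := isolated hN hM
  ex := ⟨37, by decide, by norm_num, (hasOrd_prime (by norm_num)).2 (by rw [NotCT.Orders.ly hM]; norm_num),
    not_74 hM⟩

theorem frob (hN : NameHyp.{u}) (hM : Spor.IsoLy M) : HasFrob M 67 22 :=
  hasFrob_of_isolated (by norm_num) (NotCT.Orders.ly hM) (isolated hN hM) (by norm_num) (by norm_num) (by norm_num)
    (by decide)

end facts

/-- the only name -/
theorem lst_eq : lst [2, 3, 5, 7, 11, 31, 37, 67] [67] 67 71 = [Grp.ly] := by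
  rw [Cfsg.Agent.H839.LstFast.lst_fast 27000 (by norm_num)]
  decide +kernel

theorem primes {r : ℕ} (hr : r.Prime) (hd : r ∣ 51765179004000000) : r ∈ [2, 3, 5, 7, 11, 31, 37, 67] :=
  H306.Rec.mem_of_dvd_pow (ps := [2, 3, 5, 7, 11, 31, 37, 67])
    (by
      intro p hp
      simp only [List.mem_cons, List.not_mem_nil, or_false] at hp
      rcases hp with rfl | rfl | rfl | rfl | rfl | rfl | rfl | rfl <;> norm_num)
    (k := 8) (by norm_num) hr hd

/-- **Row Ly.** -/
theorem rec_ly (hN : NameHyp.{u}) {G : Type u} [Group G] [Finite G] {M : Type v} [Group M] [Finite M]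
    (hM : Spor.IsoLy M) (h : Same G M) : Nonempty (G ≃* M) := by
  have hc := NotCT.Orders.ly hM
  have hg := good hN hM
  have hiso := isolated_iff.1 (isolated hN hM)
  have hsol : ¬ Group.IsSolvable G :=
    not_solvable_of_same h (r := 67) (s := 37) (t := 2) (by norm_num) (by norm_num) (by norm_num) (by norm_num)
      (by norm_num) (by norm_num) (by rw [hc]; norm_num) (by rw [hc]; norm_num) (by rw [hc]; norm_num)
      (hiso 37 (by norm_num) (by norm_num)) (hiso 2 (by norm_num) (by norm_num)) (not_74 hM)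
  obtain ⟨X, _, _, π, S, hR⟩ := exists_red hsol ((dvd_of_same h Nat.prime_two).2 (by rw [hc]; norm_num))
    (hg.of_same h)
  have hR0 := hR 67 (hg.of_same h)
  have hSs : IsSimpleGroup S := hR0.simple
  have hsub : H306.Rec.Sub S M := ⟨fun n hn => (h n).1 (hR0.hasOrd' hn), fun r hr => (hR r (hr.of_same h)).dvd⟩
  obtain ⟨g, hgn, hgm⟩ := H306.Rec.name_mem hN hR0.nonab hsub (ps := [2, 3, 5, 7, 11, 31, 37, 67]) (rs := [67])
    (B := 67) (N := 71) hc (by norm_num) (by decide) (by norm_num) (by decide) (fun r hr hd => primes hr hd)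
    (by
      intro r hr
      rw [List.mem_singleton] at hr
      rw [hr]
      exact hR0.dvd)
  rw [lst_eq, List.mem_singleton] at hgm
  subst hgm
  obtain ⟨e1⟩ : Spor.IsoLy S := hgn.real
  have hMe := hM
  obtain ⟨e2⟩ := hMe
  have e : S ≃* M := e1.trans e2.symm
  refine finish hR0 ?_ e (Or.inl ?_)
  · intro p hp hpG
    by_cases hp67 : p = 67
    · rw [hp67]
      exact hR0.not_dvd
    · have hFS : HasFrob S 67 22 := (frob hN hM).of_injective e.symm.toMonoidHom e.symm.injective
      exact hR0.kill' hp (by norm_num) (Ne.symm hp67) hFS fun h4 => not_22 hM hp.two_le ((h _).1 h4)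
  · rw [H548.Crit.card_out_congr e2]
    exact H997.OutCard.card_eq_one' TypeM.OutLyFin.inner_ly

end Cfsg.Agent.H889.RecLy
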